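import Cfsg.Prelude.Def_Transfer
import Cfsg.Agent.J2.ExtQuot
import Cfsg.Agent.J2Type.CStruct
import Cfsg.Agent.Lib.VonDyck
set_option linter.all false

/-!
# A group with a signed permutation model is `2^{1+4}_- : A₅`

`M : IsModel Q z v ρ` (`Cfsg.Agent.J2Type.Model`): `Q` is normal, extraspecial of order 32 of minus type, `C / Q ≅ A₅`,
and `Q` has a complement if there is an involution outside `Q`.
-/

set_option autoImplicit false

namespace Cfsg.Agent.H72.ModelFacts

open Subgroup Cfsg.Agent.J2Type.Model Cfsg.Agent.J2Type.SPFacts Cfsg.Agent.J2Type.CStruct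

variable {C : Type*} [Group C] {Q : Subgroup C} {z : C} {v : Fin 5 → C} {ρ : C →* SP}

/-- the permutation part -/
def sigmaHom : SP →* Equiv.Perm (Fin 5) where
  toFun g := g.σ
  map_one' := rfl
  map_mul' := fun _ _ => rfl

/-- the projection of `C` onto the alternating group -/
def proj (M : IsModel Q z v ρ) : C →* alternatingGroup (Fin 5) :=
  (sigmaHom.comp ρ).codRestrict _ fun c => Equiv.Perm.mem_alternatingGroup.2 ((M.range (ρ c)).1 ⟨c, rfl⟩).1

theorem proj_coe (M : IsModel Q z v ρ) (c : C) : (proj M c : Equiv.Perm (Fin 5)) = (ρ c).σ := rfl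

theorem proj_surj (M : IsModel Q z v ρ) : Function.Surjective (proj M) := by
  rintro ⟨σ, hσ⟩
  obtain ⟨c, hc⟩ := (M.range ⟨σ, fun _ => 0⟩).2 ⟨Equiv.Perm.mem_alternatingGroup.1 hσ, by simp⟩
  exact ⟨c, Subtype.ext (by rw [proj_coe, hc])⟩

theorem proj_ker (M : IsModel Q z v ρ) : (proj M).ker = Q := by
  ext c
  rw [MonoidHom.mem_ker, M.mem_Q]
  constructor
  · intro h
    have h1 := congrArg (Subtype.val) h
    rwa [proj_coe] at h1
  · intro h
    exact Subtype.ext (by rw [proj_coe, h]; rfl)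

theorem normal_Q (M : IsModel Q z v ρ) : Q.Normal := by
  rw [← proj_ker M]; infer_instance

/-- **`C / Q ≅ A₅`** -/
theorem quot_equiv (M : IsModel Q z v ρ) [Q.Normal] : Nonempty (C ⧸ Q ≃* alternatingGroup (Fin 5)) :=
  ⟨(QuotientGroup.quotientMulEquivOfEq (proj_ker M).symm).trans
    (QuotientGroup.quotientKerEquivOfSurjective (proj M) (proj_surj M))⟩

/-- the signs of the elements of `Q` -/
def TQ : Finset SP := (Finset.univ.filter fun s : Fin 5 → ZMod 2 => ∑ i, s i = 0).image fun s => ⟨1, s⟩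

theorem card_TQ : TQ.card = 16 := by decide +kernel

theorem card_Q (M : IsModel Q z v ρ) : Nat.card Q = 32 := by
  have h := card_fiber M TQ (by
    intro g hg
    obtain ⟨s, hs, rfl⟩ := Finset.mem_image.1 hg
    exact ⟨Equiv.Perm.sign_one, (Finset.mem_filter.1 hs).2⟩)
  rw [card_TQ] at h
  rw [show (32 : ℕ) = 2 * 16 from rfl, ← h]
  refine Nat.card_congr (Equiv.subtypeEquivRight fun x => ?_)
  rw [M.mem_Q]
  constructor
  · intro hx
    refine Finset.mem_image.2 ⟨(ρ x).s, Finset.mem_filter.2 ⟨Finset.mem_univ _, ((M.range (ρ x)).1 ⟨x, rfl⟩).2⟩, ?_⟩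
    exact SP.ext hx.symm rfl
  · intro hx
    obtain ⟨s, -, hs⟩ := Finset.mem_image.1 hx
    rw [← hs]

theorem finite_Q (M : IsModel Q z v ρ) : Finite Q := Nat.finite_of_card_ne_zero (by rw [card_Q M]; norm_num)

/-- elements commuting with the `v i` -/
theorem eq_of_comm (M : IsModel Q z v ρ) {c : C} (h : ∀ i, c * v i = v i * c) : c = 1 ∨ c = z := by
  rw [← M.ker]
  have h1 : ∀ i, 0 = (ρ c).s i ∧ i = (ρ c).σ i := by
    intro i
    apply M.v_inj
    rw [← M.conj, h i, mul_inv_cancel_right, zp_zero, one_mul]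
  apply SP.ext
  · exact Equiv.ext fun i => (h1 i).2.symm
  · exact funext fun i => (h1 i).1.symm

theorem sq_mem (M : IsModel Q z v ρ) {c : C} (h : c ∈ Q) : c * c = 1 ∨ c * c = z := by
  rw [← M.ker, map_mul]
  rw [M.mem_Q] at h
  apply SP.ext
  · rw [mul_σ, h, mul_one, one_σ]
  · funext i
    rw [mul_s, h, one_s]
    exact CharTwo.add_self_eq_zero _

theorem isExtraspecial (M : IsModel Q z v ρ) : Cfsg.IsExtraspecial 2 Q := by
  have := finite_Q M
  have h2 : Fact (Nat.Prime 2) := ⟨Nat.prime_two⟩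
  apply Cfsg.Agent.J2.ExtQuot.isExtraspecial_two
  · exact IsPGroup.of_card (n := 5) (by rw [card_Q M]; norm_num)
  · rw [Nat.card_eq_two_iff' (1 : center Q)]
    have hzc : (⟨z, M.z_mem⟩ : Q) ∈ center Q := by
      rw [mem_center_iff]
      intro g
      exact Subtype.ext (M.z_comm g)
    refine ⟨⟨⟨z, M.z_mem⟩, hzc⟩, ?_, ?_⟩
    · intro h
      exact M.z_ne (congrArg (fun x : center Q => ((x : Q) : C)) h)
    · rintro ⟨⟨y, hy⟩, hyc⟩ hne
      rw [mem_center_iff] at hyc
      rcases eq_of_comm M (c := y) (fun i => (congrArg Subtype.val (hyc ⟨v i, M.v_mem i⟩)).symm) with h | h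
      · exact absurd (Subtype.ext (Subtype.ext h)) hne
      · exact Subtype.ext (Subtype.ext h)
  · rintro ⟨x, hx⟩
    rw [mem_center_iff]
    intro g
    apply Subtype.ext
    change (g : C) * x ^ 2 = x ^ 2 * g
    rw [pow_two]
    rcases sq_mem M hx with h | h
    · rw [h, one_mul, mul_one]
    · rw [h, M.z_comm]
  · refine ⟨⟨v 0, M.v_mem 0⟩, ⟨v 1, M.v_mem 1⟩, fun h => ?_⟩
    exact absurd ((v_comm_iff M 0 1).1 (congrArg Subtype.val h)) (by decide)

/-- **minus type** -/
theorem card_le_four (M : IsModel Q z v ρ) (E : Subgroup Q) (hE : Cfsg.IsElementaryAbelian 2 E) :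
    Nat.card E ≤ 2 ^ 2 := by
  classical
  obtain ⟨hc, h2⟩ := hE
  have hsq : ∀ x : Q, x ∈ E → (x : C) * x = 1 := by
    intro x hx
    have := congrArg Subtype.val (h2 x hx)
    rw [pow_two] at this
    exact this
  have hcomm : ∀ x ∈ E, ∀ y ∈ E, (x : C) * y = y * x := by
    intro x hx y hy
    exact congrArg (fun a : E => ((a : Q) : C)) (hc.is_comm.comm ⟨x, hx⟩ ⟨y, hy⟩)
  have key : ∃ w : C, ∀ y ∈ E, (y : C) = 1 ∨ (y : C) = z ∨ (y : C) = w ∨ (y : C) = z * w := by
    by_cases h : ∃ x : Q, x ∈ E ∧ (x : C) ≠ 1 ∧ (x : C) ≠ z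
    · obtain ⟨x, hx, hx1, hxz⟩ := h
      rcases invol_Q M x.2 (hsq x hx) hx1 with h | ⟨a, i, h⟩
      · exact absurd h hxz
      · refine ⟨v i, fun y hy => ?_⟩
        by_cases hy1 : (y : C) = 1
        · exact Or.inl hy1
        rcases invol_Q M y.2 (hsq y hy) hy1 with h' | ⟨b, j, h'⟩
        · exact Or.inr (Or.inl h')
        · have h3 := hcomm x hx y hy
          rw [h, h', zv_comm_iff M] at h3
          subst h3
          rcases zmod2_cases b with rfl | rfl
          · rw [zp_zero, one_mul] at h'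
            exact Or.inr (Or.inr (Or.inl h'))
          · rw [zp_one] at h'
            exact Or.inr (Or.inr (Or.inr h'))
    · refine ⟨1, fun y hy => ?_⟩
      by_cases hy1 : (y : C) = 1
      · exact Or.inl hy1
      · refine Or.inr (Or.inl ?_)
        by_contra hyz
        exact h ⟨y, hy, hy1, hyz⟩
  obtain ⟨w, hw⟩ := key
  have hmem : ∀ y : E, ((y : Q) : C) ∈ ({1, z, w, z * w} : Finset C) := by
    intro y
    simpa using hw y y.2
  let f : E → {x : C // x ∈ ({1, z, w, z * w} : Finset C)} := fun y => ⟨((y : Q) : C), hmem y⟩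
  have hf : Function.Injective f := by
    intro a b hab
    have h3 : (f a).1 = (f b).1 := by rw [hab]
    exact Subtype.ext (Subtype.ext h3)
  refine (Nat.card_le_card_of_injective f hf).trans ?_
  rw [Nat.card_eq_fintype_card, Fintype.card_coe]
  exact (Finset.card_le_four).trans (by norm_num)

/-- a permutation of order 3 -/
def τb : Equiv.Perm (Fin 5) := Equiv.swap 1 2 * Equiv.swap 2 4

theorem rel_b : (⟨τb, fun _ => 0⟩ : SP) ^ 3 = 1 := by decide +kernel
theorem rel_ab : (g0 * (⟨τb, fun _ => 0⟩ : SP)) ^ 5 = 1 := by decide +kernel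
theorem sign_b : Equiv.Perm.sign τb = 1 := by decide +kernel

/-- **The complement.** -/
theorem exists_complement (M : IsModel Q z v ρ) (hcard : Nat.card C = 1920) {u : C} (hu : u * u = 1)
    (huQ : u ∉ Q) : ∃ H : Subgroup C, Q.IsComplement' H := by
  obtain ⟨a, ha⟩ := (M.range g0).2 g0_E
  obtain ⟨b, hb⟩ := (M.range ⟨τb, fun _ => 0⟩).2 ⟨sign_b, by simp⟩
  -- change by `z`
  have hz2 : z ^ 2 = 1 := by rw [pow_two, M.z_sq]
  have hcz : ∀ c : C, Commute z c := fun c => (M.z_comm c).symm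
  have haa : ∀ w : C, ρ w = g0 → w ^ 2 = 1 := by
    intro w hw
    rw [pow_two]
    refine sq_of_rho_sq M hu huQ ?_ ?_
    · rw [hw]; exact B_sq g0 g0_mem_B
    · rw [hw]; exact g0_σ_ne
  obtain ⟨b', hb', hb3⟩ : ∃ b' : C, ρ b' = ⟨τb, fun _ => 0⟩ ∧ b' ^ 3 = 1 := by
    have h1 : ρ (b ^ 3) = 1 := by rw [map_pow, hb, rel_b]
    rcases (M.ker _).1 h1 with h | h
    · exact ⟨b, hb, h⟩
    · refine ⟨z * b, by rw [map_mul, rho_z M, one_mul, hb], ?_⟩
      rw [(hcz b).mul_pow, h, ← pow_succ, show (3 + 1 : ℕ) = 2 * 2 by norm_num, pow_mul, hz2, one_pow]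
  obtain ⟨a', ha', hab⟩ : ∃ a' : C, ρ a' = g0 ∧ (a' * b') ^ 5 = 1 := by
    have h1 : ρ ((a * b') ^ 5) = 1 := by rw [map_pow, map_mul, ha, hb', rel_ab]
    rcases (M.ker _).1 h1 with h | h
    · exact ⟨a, ha, h⟩
    · refine ⟨z * a, by rw [map_mul, rho_z M, one_mul, ha], ?_⟩
      rw [mul_assoc, (hcz (a * b')).mul_pow, h, ← pow_succ, show (5 + 1 : ℕ) = 2 * 3 by norm_num, pow_mul, hz2,
        one_pow]
  have ha2 := haa a' ha'
  have hpa : proj M a' ≠ 1 := by
    intro h
    have h1 := congrArg Subtype.val h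
    rw [proj_coe, ha'] at h1
    exact g0_σ_ne h1
  have ha1 : a' ≠ 1 := by
    rintro rfl
    exact hpa (map_one _)
  obtain ⟨e⟩ := Cfsg.Agent.Lib.VonDyck.closure_equiv_alternatingFive ha2 hb3 hab (Or.inl ha1)
  set H : Subgroup C := closure {a', b'} with hH
  have hcH : Nat.card H = 60 := by
    rw [Nat.card_congr e.toEquiv, nat_card_alternatingGroup, Nat.card_fin]
    rfl
  have hsimple : IsSimpleGroup H := by
    have := e.toEquiv.nontrivial
    exact IsSimpleGroup.isSimpleGroup_of_surjective e.symm.toMonoidHom e.symm.surjective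
  have haH : a' ∈ H := subset_closure (by simp)
  have hdis : Disjoint Q H := by
    have hQn := normal_Q M
    rcases (inferInstance : (Q.subgroupOf H).Normal).eq_bot_or_eq_top with h | h
    · rwa [subgroupOf_eq_bot] at h
    · exfalso
      rw [subgroupOf_eq_top] at h
      apply hpa
      rw [← MonoidHom.mem_ker, proj_ker M]
      exact h haH
  have hfin : Finite C := Nat.finite_of_card_ne_zero (by rw [hcard]; norm_num)
  refine ⟨H, isComplement'_of_card_mul_and_disjoint ?_ hdis⟩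
  rw [card_Q M, hcH, hcard]

end Cfsg.Agent.H72.ModelFacts
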