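import Cfsg.Agent.H72.Task106
import Cfsg.Agent.H72.AdjPSL
import Cfsg.Agent.H72.AdjPSUW
import Cfsg.Agent.Prune
set_option linter.all false
prune_inst 0x7f00000000000000000000000000000000000000000000000000000000000000000000000000000000000000000000000000000000000000000000000000000000000000000000000000000000000000003fffffffffffffffffffffffffffbeffbdffffffff
open scoped Cfsg.Agent.FastGrp

/-!
# The odd part of the prime graphs of the classical groups through weights and classes (helper72)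

`WG S p m c K wt w κ t` : for the odd primes dividing `|S|`: `r`, `s` are adjacent if `w r + w s + c ≤ m` or if they are
different from `p` and of the same class `κ r = κ s ∈ K`; `w r ≤ max t (wt (κ r))`, `w p ≤ 2`.

* `WG.top` : a coclique of odd primes has at most `max (N h) (1 + N (m - c - h))` elements, `2 h + c ≤ m`, where `N j`
  is the number of classes of weight more than `j`;
* `WG.thr` : a coclique of odd primes through a prime of weight `w₀` has at most `1 + N (m - c - w₀)` elements;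
* instances `psl`, `psu`, `psp`, `odd`, `plus`, `minus`.
-/

set_option autoImplicit false
set_option linter.unusedSectionVars false

namespace Cfsg.Agent.H72.WGr

open Cfsg.Agent.H72.AdjOrth Cfsg.Agent.H72.AdjSp Cfsg.Agent.H72.AdjCoc

/-- The odd part of the prime graph through weights and classes. -/
structure WG (S : Type*) [Group S] (p m c : ℕ) (K : Finset ℕ) (wt w κ : ℕ → ℕ) (t : ℕ) : Prop where
  hw : ∀ r s : ℕ, r.Prime → s.Prime → r ≠ 2 → s ≠ 2 → r ∣ Nat.card S → s ∣ Nat.card S → r ≠ s → w r + w s + c ≤ m →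
    ∃ g : S, orderOf g = r * s
  hκ : ∀ r s : ℕ, r.Prime → s.Prime → r ≠ 2 → s ≠ 2 → r ∣ Nat.card S → s ∣ Nat.card S → r ≠ s → r ≠ p → s ≠ p →
    κ r = κ s → ∃ g : S, orderOf g = r * s
  mem : ∀ r : ℕ, r.Prime → r ≠ 2 → r ∣ Nat.card S → r ≠ p → κ r ∈ K
  le : ∀ r : ℕ, r.Prime → r ≠ 2 → r ∣ Nat.card S → r ≠ p → w r ≤ max t (wt (κ r))
  hp : w p ≤ 2

/-- a coclique of odd primes -/
structure OCoc (S : Type*) [Group S] (C : Finset ℕ) : Prop where
  prime : ∀ r ∈ C, r.Prime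
  dvd : ∀ r ∈ C, r ∣ Nat.card S
  ne2 : ∀ r ∈ C, r ≠ 2
  nadj : ∀ r ∈ C, ∀ s ∈ C, r ≠ s → ¬ ∃ x : S, orderOf x = r * s

theorem OCoc.mono {S : Type*} [Group S] {C D : Finset ℕ} (h : OCoc S C) (hD : D ⊆ C) : OCoc S D :=
  ⟨fun r hr => h.prime r (hD hr), fun r hr => h.dvd r (hD hr), fun r hr => h.ne2 r (hD hr),
    fun r hr s hs => h.nadj r (hD hr) s (hD hs)⟩

theorem OCoc.congr {S T : Type*} [Group S] [Group T] (e : S ≃* T) {C : Finset ℕ} (h : OCoc S C) : OCoc T C := by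
  refine ⟨h.prime, fun r hr => by rw [← Nat.card_congr e.toEquiv]; exact h.dvd r hr, h.ne2, ?_⟩
  rintro r hr s hs hrs ⟨x, hx⟩
  exact h.nadj r hr s hs hrs ⟨e.symm x, by rw [MulEquiv.orderOf_eq, hx]⟩

section abs

variable {S : Type*} [Group S] {p m c : ℕ} {K : Finset ℕ} {wt w κ : ℕ → ℕ} {t : ℕ}

/-- elements of weight more than `j`, none of them `p` -/
theorem WG.inj (W : WG S p m c K wt w κ t) {C : Finset ℕ} (hC : OCoc S C) {j : ℕ} (htj : t ≤ j)
    (hj : ∀ r ∈ C, j < w r) (hpj : p ∉ C ∨ 2 ≤ j) : C.card ≤ (K.filter fun k => j < wt k).card := by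
  have hp : ∀ r ∈ C, r ≠ p := by
    intro r hr hrp
    rcases hpj with h | h
    · exact h (hrp ▸ hr)
    · have h1 := hj r hr
      have h2 := W.hp
      rw [hrp] at h1
      omega
  refine Finset.card_le_card_of_injOn κ ?_ ?_
  · intro r hr
    have hr := Finset.mem_coe.1 hr
    have h1 := W.le r (hC.prime r hr) (hC.ne2 r hr) (hC.dvd r hr) (hp r hr)
    have h2 := hj r hr
    refine Finset.mem_coe.2 (Finset.mem_filter.2 ⟨W.mem r (hC.prime r hr) (hC.ne2 r hr) (hC.dvd r hr) (hp r hr), ?_⟩)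
    rcases le_max_iff.1 h1 with h3 | h3
    · omega
    · omega
  · intro r hr s hs hrs
    have hr := Finset.mem_coe.1 hr
    have hs := Finset.mem_coe.1 hs
    by_contra hne
    exact hC.nadj r hr s hs hne (W.hκ r s (hC.prime r hr) (hC.prime s hs) (hC.ne2 r hr) (hC.ne2 s hs) (hC.dvd r hr)
      (hC.dvd s hs) hne (hp r hr) (hp s hs) hrs)

/-- **The bound for cocliques of odd primes.** -/
theorem WG.top (W : WG S p m c K wt w κ t) {C : Finset ℕ} (hC : OCoc S C) {h : ℕ} (hth : t ≤ h)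
    (hpj : p ∉ C ∨ 2 ≤ h) (h2 : 2 * h + c ≤ m) :
    C.card ≤ max (K.filter fun k => h < wt k).card (1 + (K.filter fun k => m - c - h < wt k).card) := by
  classical
  by_cases h0 : ∀ r ∈ C, h < w r
  · exact le_max_of_le_left (W.inj hC hth h0 hpj)
  · push Not at h0
    obtain ⟨x, hx, hxh⟩ := h0
    refine le_max_of_le_right ?_
    have h3 : ∀ r ∈ C.erase x, m - c - h < w r := by
      intro r hr
      obtain ⟨hrx, hr⟩ := Finset.mem_erase.1 hr
      by_contra h4
      exact hC.nadj x hx r hr hrx.symm (W.hw x r (hC.prime x hx) (hC.prime r hr) (hC.ne2 x hx) (hC.ne2 r hr)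
        (hC.dvd x hx) (hC.dvd r hr) hrx.symm (by omega))
    have h4 := W.inj (hC.mono (Finset.erase_subset x C)) (j := m - c - h) (by omega) h3 (by
      rcases hpj with h5 | h5
      · exact Or.inl fun h6 => h5 (Finset.mem_of_mem_erase h6)
      · exact Or.inr (by omega))
    rw [Finset.card_erase_of_mem hx] at h4
    omega

/-- **The bound for cocliques of odd primes through `x`.** -/
theorem WG.thr (W : WG S p m c K wt w κ t) {C : Finset ℕ} (hC : OCoc S C) (ht : t ≤ 2) {x w₀ : ℕ} (hx : x ∈ C)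
    (hxw : w x ≤ w₀) (hm : w₀ + 2 + c ≤ m) :
    C.card ≤ 1 + (K.filter fun k => m - c - w₀ < wt k).card := by
  classical
  have h3 : ∀ r ∈ C.erase x, m - c - w₀ < w r := by
    intro r hr
    obtain ⟨hrx, hr⟩ := Finset.mem_erase.1 hr
    by_contra h4
    exact hC.nadj x hx r hr hrx.symm (W.hw x r (hC.prime x hx) (hC.prime r hr) (hC.ne2 x hx) (hC.ne2 r hr)
      (hC.dvd x hx) (hC.dvd r hr) hrx.symm (by omega))
  have h4 := W.inj (hC.mono (Finset.erase_subset x C)) (j := m - c - w₀) (by omega) h3 (Or.inr (by omega))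
  rw [Finset.card_erase_of_mem hx] at h4
  omega

/-- **The crude bound.** -/
theorem WG.crude (W : WG S p m c K wt w κ t) {C : Finset ℕ} (hC : OCoc S C) : C.card ≤ 1 + K.card := by
  classical
  have h1 : (C.erase p).card ≤ K.card := by
    refine Finset.card_le_card_of_injOn κ ?_ ?_
    · intro r hr
      obtain ⟨hrp, hr⟩ := Finset.mem_erase.1 (Finset.mem_coe.1 hr)
      exact Finset.mem_coe.2 (W.mem r (hC.prime r hr) (hC.ne2 r hr) (hC.dvd r hr) hrp)
    · intro r hr s hs hrs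
      obtain ⟨hrp, hr⟩ := Finset.mem_erase.1 (Finset.mem_coe.1 hr)
      obtain ⟨hsp, hs⟩ := Finset.mem_erase.1 (Finset.mem_coe.1 hs)
      by_contra hne
      exact hC.nadj r hr s hs hne (W.hκ r s (hC.prime r hr) (hC.prime s hs) (hC.ne2 r hr) (hC.ne2 s hs) (hC.dvd r hr)
        (hC.dvd s hs) hne hrp hsp hrs)
  have h2 := Finset.pred_card_le_card_erase (s := C) (a := p)
  omega

/-- the bound with `p` counted separately -/
theorem WG.top' (W : WG S p m c K wt w κ t) {C : Finset ℕ} (hC : OCoc S C) {h : ℕ} (hth : t ≤ h)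
    (h2 : 2 * h + c ≤ m) :
    C.card ≤ 1 + max (K.filter fun k => h < wt k).card (1 + (K.filter fun k => m - c - h < wt k).card) := by
  classical
  have h1 := W.top (hC.mono (Finset.erase_subset p C)) hth (Or.inl (Finset.notMem_erase p C)) h2
  have h2 := Finset.pred_card_le_card_erase (s := C) (a := p)
  omega

theorem WG.congr {T : Type*} [Group T] (e : S ≃* T) (W : WG T p m c K wt w κ t) : WG S p m c K wt w κ t := by
  have hc := Nat.card_congr e.toEquiv
  refine ⟨?_, ?_, ?_, ?_, W.hp⟩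
  · intro r s hr hs hr2 hs2 h1 h2 hrs h
    rw [hc] at h1 h2
    obtain ⟨x, hx⟩ := W.hw r s hr hs hr2 hs2 h1 h2 hrs h
    exact ⟨e.symm x, by rw [MulEquiv.orderOf_eq, hx]⟩
  · intro r s hr hs hr2 hs2 h1 h2 hrs hrp hsp h
    rw [hc] at h1 h2
    obtain ⟨x, hx⟩ := W.hκ r s hr hs hr2 hs2 h1 h2 hrs hrp hsp h
    exact ⟨e.symm x, by rw [MulEquiv.orderOf_eq, hx]⟩
  · intro r hr hr2 h1
    rw [hc] at h1
    exact W.mem r hr hr2 h1
  · intro r hr hr2 h1
    rw [hc] at h1
    exact W.le r hr hr2 h1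

end abs

/-! ### The families -/

section fam

variable {F : Type*} [Field F] [Fintype F]

/-- the number of the classes of weight more than `j` -/
def NS (m j : ℕ) : ℕ := (m - j) + ((m + 1) / 2 - (j + 1) / 2)

theorem card_Icc_filter (n j : ℕ) : ((Finset.Icc 1 n).filter fun k => j < k).card ≤ n - j := by
  have h : ((Finset.Icc 1 n).filter fun k => j < k) ⊆ Finset.Ioc j n := by
    intro k hk
    rw [Finset.mem_filter, Finset.mem_Icc] at hk
    rw [Finset.mem_Ioc]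
    omega
  have h1 := Finset.card_le_card h
  rwa [Nat.card_Ioc] at h1

theorem card_cl_filter (m j : ℕ) : ((cl 0 m).filter fun k => j < eta k).card ≤ NS m j := by
  have h : ((cl 0 m).filter fun k => j < eta k) ⊆ cl j m := by
    intro k hk
    rw [Finset.mem_filter, mem_cl] at hk
    rw [mem_cl]
    omega
  exact (Finset.card_le_card h).trans (card_cl_le j m)

theorem card_union_filter {A : Finset ℕ} (hA : A.card ≤ 1) (m j : ℕ) :
    ((cl 0 (m - 1) ∪ A).filter fun k => j < eta k).card ≤ NS (m - 1) j + 1 := by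
  classical
  rw [Finset.filter_union]
  refine (Finset.card_union_le _ _).trans (Nat.add_le_add (card_cl_filter (m - 1) j) ?_)
  exact (Finset.card_le_card (Finset.filter_subset _ _)).trans hA

theorem exists_char (F : Type*) [Field F] [Fintype F] :
    ∃ p : ℕ, p.Prime ∧ CharP F p ∧ (∀ s : ℕ, s.Prime → s ∣ Fintype.card F → s = p) ∧ p ∣ Fintype.card F := by
  obtain ⟨p, hpp, hp, h⟩ := prime_dvd_card F
  refine ⟨p, hpp, hp, ?_, ?_⟩
  · rw [Nat.card_eq_fintype_card] at h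
    exact h
  · obtain ⟨k, -, hk⟩ := FiniteField.card F p
    rw [hk]
    exact dvd_pow_self p k.ne_zero

theorem psl {n : ℕ} (hn : 3 ≤ n) {p : ℕ} (hp : ∀ s : ℕ, s.Prime → s ∣ Fintype.card F → s = p)
    (hp' : p ∣ Fintype.card F) :
    WG (Matrix.ProjectiveSpecialLinearGroup (Fin n) F) p n 0 (Finset.Icc 1 n) (fun k => k)
      (AdjPSL.wL (Fintype.card F)) (ee (Fintype.card F)) 2 := by
  refine ⟨?_, ?_, ?_, ?_, ?_⟩
  · intro r s hr hs _ _ _ _ hrs h
    exact AdjPSL.adj_of_wL hr hs hrs (by omega)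
  · intro r s hr hs _ _ h1 _ hrs hrp hsp h
    have hrq : ¬ r ∣ Fintype.card F := fun h => hrp (hp r hr h)
    exact AdjPSL.adj_of_ee hn hr hs hrs hrq h (AdjPSL.ee_le hr hrq h1)
  · intro r hr _ h1 hrp
    have hrq : ¬ r ∣ Fintype.card F := fun h => hrp (hp r hr h)
    exact Finset.mem_Icc.2 ⟨ee_pos hr hrq, AdjPSL.ee_le hr hrq h1⟩
  · intro r hr _ h1 hrp
    rw [AdjPSL.wL]
    split_ifs with h
    · exact le_max_left _ _
    · exact le_max_right _ _
  · rw [AdjPSL.wL, if_pos (Or.inl hp')]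

theorem psu {n q : ℕ} (hF : Fintype.card F = q ^ 2) (hn : 3 ≤ n) {p : ℕ}
    (hp : ∀ s : ℕ, s.Prime → s ∣ q → s = p) (hp' : p ∣ q) :
    WG (Cfsg.PSU n F q) p n 0 (Finset.Icc 1 n) (fun k => k) (AdjPSU.wU q) (AdjPSU.nu q) 2 := by
  refine ⟨?_, ?_, ?_, ?_, ?_⟩
  · intro r s hr hs _ _ _ _ hrs h
    exact AdjPSU.adj_of_wU hF hn hr hs hrs (by omega)
  · intro r s hr hs _ _ h1 _ hrs hrp hsp h
    have hrq : ¬ r ∣ q := fun h => hrp (hp r hr h)
    exact AdjPSU.adj_of_nu hF hn hr hs hrs hrq h (AdjPSU.nu_le hF (by omega) hr hrq h1)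
  · intro r hr _ h1 hrp
    have hrq : ¬ r ∣ q := fun h => hrp (hp r hr h)
    exact Finset.mem_Icc.2 ⟨AdjPSU.nu_pos hr hrq, AdjPSU.nu_le hF (by omega) hr hrq h1⟩
  · intro r hr _ h1 hrp
    rw [AdjPSU.wU]
    split_ifs with h
    · exact le_max_left _ _
    · exact le_max_right _ _
  · rw [AdjPSU.wU, if_pos (Or.inl hp')]

theorem wO_le {q r t : ℕ} (hr2 : r ≠ 2) (hrq : ¬ r ∣ q) : wO q r ≤ max t (eta (ee q r)) := by
  rw [wO, if_neg (by rintro (h | h); exacts [hr2 h, hrq h])]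
  exact le_max_right _ _

theorem wO_p {q p : ℕ} (hp : p ∣ q) : wO q p ≤ 2 := by
  rw [wO, if_pos (Or.inr hp)]

theorem psp {m : ℕ} (hm : 2 ≤ m) {p : ℕ} (hp : ∀ s : ℕ, s.Prime → s ∣ Nat.card F → s = p)
    (hp' : p ∣ Nat.card F) :
    WG (Cfsg.PSp m F) p m 0 (cl 0 m) eta (wO (Nat.card F)) (ee (Nat.card F)) 0 := by
  refine ⟨?_, ?_, ?_, ?_, wO_p hp'⟩
  · intro r s hr hs _ _ _ _ hrs h
    exact sp_adj hm hr hs hrs (by omega)
  · intro r s hr hs hr2 hs2 h1 _ hrs hrp hsp h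
    have hrq : ¬ r ∣ Nat.card F := fun h => hrp (hp r hr h)
    have hsq : ¬ s ∣ Nat.card F := fun h => hsp (hp s hs h)
    exact sp_clq hm hr hs hr2 hs2 hrs hrq hsq h (sp_class hr hrq h1)
  · intro r hr _ h1 hrp
    have hrq : ¬ r ∣ Nat.card F := fun h => hrp (hp r hr h)
    exact mem_cl.2 ⟨eta_ee_pos hr hrq, sp_class hr hrq h1⟩
  · intro r hr hr2 h1 hrp
    exact wO_le hr2 fun h => hrp (hp r hr h)

theorem odd {m : ℕ} (h2 : (2 : F) ≠ 0) (hm : 3 ≤ m) {p : ℕ} (hp : ∀ s : ℕ, s.Prime → s ∣ Nat.card F → s = p)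
    (hp' : p ∣ Nat.card F) :
    WG (Cfsg.POmega F (Cfsg.quadFormOdd m F)) p m 0 (cl 0 m) eta (wO (Nat.card F)) (ee (Nat.card F)) 0 := by
  refine ⟨?_, ?_, ?_, ?_, wO_p hp'⟩
  · intro r s hr hs _ _ _ _ hrs h
    exact odd_adj h2 hm hr hs hrs (by omega)
  · intro r s hr hs hr2 hs2 h1 _ hrs hrp hsp h
    have hrq : ¬ r ∣ Nat.card F := fun h => hrp (hp r hr h)
    have hsq : ¬ s ∣ Nat.card F := fun h => hsp (hp s hs h)
    exact odd_clq h2 hm hr hs hr2 hs2 hrs hrq hsq h (odd_class h2 hm hr hrq h1)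
  · intro r hr _ h1 hrp
    have hrq : ¬ r ∣ Nat.card F := fun h => hrp (hp r hr h)
    exact mem_cl.2 ⟨eta_ee_pos hr hrq, odd_class h2 hm hr hrq h1⟩
  · intro r hr hr2 h1 hrp
    exact wO_le hr2 fun h => hrp (hp r hr h)

theorem plus {m : ℕ} (hm : 4 ≤ m) {p : ℕ} (hp : ∀ s : ℕ, s.Prime → s ∣ Nat.card F → s = p)
    (hp' : p ∣ Nat.card F) :
    WG (Cfsg.POmega F (Cfsg.quadFormPlus m F)) p m 1 (cl 0 (m - 1) ∪ topP m) eta (wO (Nat.card F))
      (ee (Nat.card F)) 0 := by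
  classical
  refine ⟨?_, ?_, ?_, ?_, wO_p hp'⟩
  · intro r s hr hs _ _ _ _ hrs h
    exact plus_adj hm hr hs hrs h
  · intro r s hr hs hr2 hs2 h1 _ hrs hrp hsp h
    have hrq : ¬ r ∣ Nat.card F := fun h => hrp (hp r hr h)
    have hsq : ¬ s ∣ Nat.card F := fun h => hsp (hp s hs h)
    exact plus_clq hm hr hs hr2 hs2 hrs hrq hsq h (plus_class hm hr hrq h1)
  · intro r hr _ h1 hrp
    have hrq : ¬ r ∣ Nat.card F := fun h => hrp (hp r hr h)
    rw [Finset.mem_union, mem_cl]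
    rcases plus_class hm hr hrq h1 with h | h
    · exact Or.inl ⟨eta_ee_pos hr hrq, by omega⟩
    · exact Or.inr (mem_topP h.1 h.2)
  · intro r hr hr2 h1 hrp
    exact wO_le hr2 fun h => hrp (hp r hr h)

theorem minus {m : ℕ} (hm : 4 ≤ m) {a b : F}
    (hab : ∀ z₁ z₂ : F, z₁ ^ 2 + a * z₁ * z₂ + b * z₂ ^ 2 = 0 → z₁ = 0 ∧ z₂ = 0) {p : ℕ}
    (hp : ∀ s : ℕ, s.Prime → s ∣ Nat.card F → s = p) (hp' : p ∣ Nat.card F) :
    WG (Cfsg.POmega F (Cfsg.quadFormMinus (m - 1) F a b)) p m 1 (cl 0 (m - 1) ∪ {2 * m}) eta (wO (Nat.card F))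
      (ee (Nat.card F)) 0 := by
  classical
  refine ⟨?_, ?_, ?_, ?_, wO_p hp'⟩
  · intro r s hr hs _ _ _ _ hrs h
    exact minus_adj hm hab hr hs hrs h
  · intro r s hr hs hr2 hs2 h1 _ hrs hrp hsp h
    have hrq : ¬ r ∣ Nat.card F := fun h => hrp (hp r hr h)
    have hsq : ¬ s ∣ Nat.card F := fun h => hsp (hp s hs h)
    exact minus_clq hm hab hr hs hr2 hs2 hrs hrq hsq h (minus_class hm hab hr hr2 hrq h1)
  · intro r hr hr2 h1 hrp
    have hrq : ¬ r ∣ Nat.card F := fun h => hrp (hp r hr h)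
    rw [Finset.mem_union, mem_cl]
    rcases minus_class hm hab hr hr2 hrq h1 with h | h
    · exact Or.inl ⟨eta_ee_pos hr hrq, by omega⟩
    · exact Or.inr (mem_topM h.1 h.2)
  · intro r hr hr2 h1 hrp
    exact wO_le hr2 fun h => hrp (hp r hr h)

end fam

/-! ### The numerical consequences -/

section cons

variable {S : Type*} [Group S] {p m : ℕ} {w κ : ℕ → ℕ} {C : Finset ℕ}

theorem c1_L (W : WG S p m 0 (Finset.Icc 1 m) (fun k => k) w κ 2) (hC : OCoc S C) (h7 : 7 ≤ C.card) : 12 ≤ m := by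
  by_contra hm
  rcases Nat.lt_or_ge m 4 with h4 | h4
  · have h1 := W.crude hC
    rw [Nat.card_Icc] at h1
    omega
  · have h1 := W.top hC (h := m / 2) (by omega) (Or.inr (by omega)) (by omega)
    have h2 := card_Icc_filter m (m / 2)
    have h3 := card_Icc_filter m (m - 0 - m / 2)
    rcases le_max_iff.1 h1 with h5 | h5 <;> (clear * - h7 hm h4 h2 h5 h3; omega)

theorem c2_L (W : WG S p m 0 (Finset.Icc 1 m) (fun k => k) w κ 2) (hC : OCoc S C) (hm : 8 ≤ m) {x : ℕ} (hx : x ∈ C)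
    (hw : w x ≤ 2) : C.card ≤ 5 := by
  have h1 := W.thr hC le_rfl hx hw (by omega)
  have h2 := card_Icc_filter m (m - 0 - 2)
  omega

theorem c1_S (W : WG S p m 0 (cl 0 m) eta w κ 0) (hC : OCoc S C) (h7 : 7 ≤ C.card) : 8 ≤ m := by
  by_contra hm
  rcases Nat.lt_or_ge m 4 with h4 | h4
  · have h1 := W.crude hC
    have h2 := card_cl_le 0 m
    omega
  · have h1 := W.top hC (h := m / 2) (by omega) (Or.inr (by omega)) (by omega)
    have h2 := card_cl_filter m (m / 2)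
    have h3 := card_cl_filter m (m - 0 - m / 2)
    rw [NS] at h2 h3
    rcases le_max_iff.1 h1 with h5 | h5 <;> (clear * - h7 hm h2 h5 h3; omega)

theorem c2_S (W : WG S p m 0 (cl 0 m) eta w κ 0) (hC : OCoc S C) (hm : 8 ≤ m) {x : ℕ} (hx : x ∈ C)
    (hw : w x ≤ 2) : C.card ≤ 5 := by
  have h1 := W.thr hC (by omega) hx hw (by omega)
  have h2 := card_cl_filter m (m - 0 - 2)
  rw [NS] at h2
  omega

variable {A : Finset ℕ}

theorem c1_O (hA : A.card ≤ 1) (W : WG S p m 1 (cl 0 (m - 1) ∪ A) eta w κ 0) (h4m : 4 ≤ m) (hC : OCoc S C)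
    (h7 : 7 ≤ C.card) : 8 ≤ m := by
  by_contra hm
  rcases Nat.lt_or_ge m 5 with h4 | h4
  · have h1 := W.top' hC (h := 1) (by omega) (by omega)
    have h2 := card_union_filter hA m 1
    have h3 := card_union_filter hA m (m - 1 - 1)
    rw [NS] at h2 h3
    have h0 : 7 ≤ 1 + max (((cl 0 (m - 1) ∪ A).filter fun k => 1 < eta k)).card
      (1 + (((cl 0 (m - 1) ∪ A).filter fun k => m - 1 - 1 < eta k)).card) := h7.trans h1
    have h5 : 6 ≤ max (((cl 0 (m - 1) ∪ A).filter fun k => 1 < eta k)).card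
      (1 + (((cl 0 (m - 1) ∪ A).filter fun k => m - 1 - 1 < eta k)).card) := by omega
    rcases le_max_iff.1 h5 with h5 | h5 <;> (clear * - h4 h2 h5 h4m h3; omega)
  · have h1 := W.top hC (h := (m - 1) / 2) (by omega) (Or.inr (by omega)) (by omega)
    have h2 := card_union_filter hA m ((m - 1) / 2)
    have h3 := card_union_filter hA m (m - 1 - (m - 1) / 2)
    rw [NS] at h2 h3
    rcases le_max_iff.1 h1 with h5 | h5 <;> (clear * - h7 hm h2 h5 h3; omega)

theorem c2_O (hA : A.card ≤ 1) (W : WG S p m 1 (cl 0 (m - 1) ∪ A) eta w κ 0) (hC : OCoc S C) (hm : 8 ≤ m) {x : ℕ}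
    (hx : x ∈ C) (hw : w x ≤ 2) : C.card ≤ 5 := by
  have h1 := W.thr hC (by omega) hx hw (by omega)
  have h2 := card_union_filter hA m (m - 1 - 2)
  rw [NS] at h2
  omega

end cons

end Cfsg.Agent.H72.WGr

private theorem dce_9bbf24fb1c12 : _root_.True := by
  try have : _root_.True := by simp only [_root_.Cfsg.Agent.H72.WGr.NS.eq_1]
  exact _root_.True.intro
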